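import Groth.Agent.TorsionBC.Basic
import Mathlib.Algebra.Category.ModuleCat.Ext.HasExt
import Mathlib.Algebra.Category.ModuleCat.EnoughInjectives
import Mathlib.Algebra.Category.ModuleCat.Products
import Mathlib.Algebra.Category.ModuleCat.Colimits

/-!
# `Ext(M, N) → Ext(M, B ⊗ N)` is bijective for power torsion `M`
-/

set_option autoImplicit false
set_option linter.style.haveILetI false
universe u

open CategoryTheory CategoryTheory.Limits CategoryTheory.Abelian TensorProduct

attribute [local instance] HasDerivedCategory.standard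

namespace Groth.Agent.TorsionBC

variable {A B : Type u} [CommRing A] [CommRing B] [Algebra A B] [Module.Flat A B] {I : Ideal A}

variable (B) in
/-- `Ext(M, N) → Ext(M, B ⊗ N)`. -/
noncomputable def ψ (M N : ModuleCat.{u} A) (n : ℕ) : Ext.{u} M N n →+ Ext.{u} M ((T A B).obj N) n :=
  (Ext.mk₀ ((η A B).app N)).postcomp M (add_zero n)

theorem ψ_apply (M N : ModuleCat.{u} A) (n : ℕ) (x : Ext.{u} M N n) :
    ψ B M N n x = x.comp (Ext.mk₀ ((η A B).app N)) (add_zero n) := rfl

theorem ψ_comp {L M N : ModuleCat.{u} A} {a b c : ℕ} (y : Ext.{u} L M a) (x : Ext.{u} M N b) (h : a + b = c) :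
    ψ B L N c (y.comp x h) = y.comp (ψ B M N b x) h := by
  rw [ψ_apply, ψ_apply]
  exact Ext.comp_assoc_of_third_deg_zero _ _ _ _

/-- Modules killed by a power of `I`. -/
theorem bijective_ψ_of_killed (h : IsoMod A B I) (hI : I.FG) (M : ModuleCat.{u} A)
    (hM : ∃ k : ℕ, ∀ a ∈ I ^ k, ∀ m : M, a • m = 0) (N : ModuleCat.{u} A) (n : ℕ) :
    Function.Bijective (ψ B M N n) := by
  classical
  obtain ⟨g, hg⟩ := hI
  obtain ⟨k, hk⟩ := hM
  have hMf : ∀ f ∈ g, ∃ k : ℕ, ∀ m : M, f ^ k • m = 0 := fun f hf =>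
    ⟨k, hk _ (Ideal.pow_mem_pow (hg ▸ Ideal.subset_span hf) k)⟩
  let X₀ := (CochainComplex.singleFunctor (ModuleCat.{u} A) 0).obj N
  let X := X₀⟦(n : ℤ)⟧
  have hφ := bijective_φ g M h hg hMf g.toList (fun f hf => by simpa using hf) X (fun f hf hn => absurd (by simpa using hf) hn)
  let e₀ : (Tc A B).obj X₀ ≅ (CochainComplex.singleFunctor (ModuleCat.{u} A) 0).obj ((T A B).obj N) :=
    (HomologicalComplex.singleMapHomologicalComplex (T A B) (ComplexShape.up ℤ) 0).app N
  have he₀ : ηc A B X₀ ≫ e₀.hom = (CochainComplex.singleFunctor (ModuleCat.{u} A) 0).map ((η A B).app N) := by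
    apply HomologicalComplex.from_single_hom_ext
    show (𝟙 _ ≫ (η A B).app _) ≫ ((HomologicalComplex.singleMapHomologicalComplex (T A B) (ComplexShape.up ℤ) 0).hom.app N).f 0 = _
    rw [Category.id_comp, HomologicalComplex.singleMapHomologicalComplex_hom_app_self]
    show _ = ((HomologicalComplex.single (ModuleCat.{u} A) (ComplexShape.up ℤ) 0).map ((η A B).app N)).f 0
    rw [HomologicalComplex.single_map_f_self]
    exact ((η A B).naturality_assoc (HomologicalComplex.singleObjXSelf (ComplexShape.up ℤ) 0 N).hom _).symm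
  let e₁ : (Tc A B).obj X ≅ ((Tc A B).obj X₀)⟦(n : ℤ)⟧ := ((Tc A B).commShiftIso (n : ℤ)).app X₀
  have he₁ : ηc A B X ≫ e₁.hom = (ηc A B X₀)⟦(n : ℤ)⟧' := by
    ext i
    simp [e₁, X, ηc]
    rfl
  let s := DerivedCategory.singleFunctorIsoCompQ (ModuleCat.{u} A) 0
  let src : DerivedCategory.Q.obj X ≅ ((DerivedCategory.singleFunctor _ 0).obj N)⟦(n : ℤ)⟧ :=
    (DerivedCategory.Q.commShiftIso (n : ℤ)).app X₀ ≪≫ (shiftFunctor _ (n : ℤ)).mapIso (s.app N).symm
  let tgt : DerivedCategory.Q.obj ((Tc A B).obj X) ≅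
      ((DerivedCategory.singleFunctor _ 0).obj ((T A B).obj N))⟦(n : ℤ)⟧ :=
    DerivedCategory.Q.mapIso e₁ ≪≫ (DerivedCategory.Q.commShiftIso (n : ℤ)).app _ ≪≫
      (shiftFunctor _ (n : ℤ)).mapIso (DerivedCategory.Q.mapIso e₀ ≪≫ (s.app _).symm)
  have comm : DerivedCategory.Q.map (ηc A B X) ≫ tgt.hom =
      src.hom ≫ ((DerivedCategory.singleFunctor _ 0).map ((η A B).app N))⟦(n : ℤ)⟧' := by
    have h1 : DerivedCategory.Q.map (ηc A B X) ≫ DerivedCategory.Q.map e₁.hom =
        DerivedCategory.Q.map ((ηc A B X₀)⟦(n : ℤ)⟧') := by rw [← Functor.map_comp, he₁]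
    have h2 := (DerivedCategory.Q.commShiftIso (n : ℤ)).hom.naturality (ηc A B X₀)
    have h3 : DerivedCategory.Q.map (ηc A B X₀) ≫ DerivedCategory.Q.map e₀.hom =
        DerivedCategory.Q.map ((CochainComplex.singleFunctor (ModuleCat.{u} A) 0).map ((η A B).app N)) := by
      rw [← Functor.map_comp, he₀]
    have h4 := s.inv.naturality ((η A B).app N)
    simp only [tgt, src, Iso.trans_hom, Functor.mapIso_hom, Iso.app_hom, Iso.symm_hom, Iso.app_inv,
      Category.assoc]
    rw [reassoc_of% h1]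
    erw [reassoc_of% h2]
    rw [← Functor.map_comp, ← Functor.map_comp]
    congr 2
  have key : ∀ x : Ext.{u} M N n, Ext.homAddEquiv (ψ B M N n x) = φ M X (Ext.homAddEquiv x ≫ src.inv) ≫ tgt.hom := by
    intro x
    rw [ψ_apply, Ext.homAddEquiv_apply, Ext.comp_hom, Ext.mk₀_hom, ShiftedHom.comp_mk₀, Ext.homAddEquiv_apply]
    simp only [φ, Category.assoc, comm, Iso.inv_hom_id_assoc]
  have hb : Function.Bijective (fun x : Ext.{u} M N n => φ (B := B) M X (Ext.homAddEquiv x ≫ src.inv) ≫ tgt.hom) :=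
    ((Iso.homToEquiv tgt).bijective.comp hφ).comp
      ((Iso.homToEquiv src.symm).bijective.comp Ext.homAddEquiv.bijective)
  refine (Function.Bijective.of_comp_iff' Ext.homAddEquiv.bijective _).1 ?_
  convert hb using 1
  funext x
  exact key x

section Coproduct

variable {C : Type*} [Category C] [Abelian C] [EnoughInjectives C] [HasExt.{u} C]
  {J : Type} (P : J → C) [HasCoproduct P]

attribute [local instance] Ext.subsingleton_of_injective in
/-- `Ext(∐ P, N) = ∏ Ext(P j, N)`. -/
theorem bijective_precomp_ι : ∀ (n : ℕ) (N : C), Function.Bijective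
    (fun (x : Ext.{u} (∐ P) N n) (j : J) => (Ext.mk₀ (Sigma.ι P j)).comp x (zero_add n)) := by
  intro n
  induction n with
  | zero =>
    intro N
    constructor
    · intro x y hxy
      obtain ⟨a, rfl⟩ := (Ext.mk₀_bijective _ _).2 x
      obtain ⟨b, rfl⟩ := (Ext.mk₀_bijective _ _).2 y
      rw [Sigma.hom_ext a b fun j => (Ext.mk₀_bijective _ _).1 (by
        have := congrFun hxy j
        simpa [Ext.mk₀_comp_mk₀] using this)]
    · intro y
      choose a ha using fun j => (Ext.mk₀_bijective _ _).2 (y j)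
      exact ⟨Ext.mk₀ (Sigma.desc a), funext fun j => by simp [Ext.mk₀_comp_mk₀, ha]⟩
  | succ n ih =>
    intro N
    let E : InjectivePresentation N := Classical.arbitrary _
    let S := ShortComplex.mk _ _ (cokernel.condition E.f)
    haveI : Injective S.X₂ := E.injective
    have hS : S.ShortExact := { exact := ShortComplex.exact_cokernel E.f }
    constructor
    · intro x y hxy
      rw [← sub_eq_zero]
      obtain ⟨z, hz⟩ := Ext.covariant_sequence_exact₁ (∐ P) hS (x - y) (by subsingleton) rfl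
      have hj : ∀ j, ∃ w : Ext.{u} (P j) S.X₂ n,
          w.comp (Ext.mk₀ S.g) (add_zero n) = (Ext.mk₀ (Sigma.ι P j)).comp z (zero_add n) := fun j =>
        Ext.covariant_sequence_exact₃ (P j) hS _ rfl (by
          rw [Ext.comp_assoc _ _ _ _ (rfl : n + 1 = n + 1) (by omega), hz, sub_eq_add_neg, Ext.comp_add,
            Ext.comp_neg, ← sub_eq_add_neg, sub_eq_zero]
          exact congrFun hxy j)
      choose w hw using hj
      obtain ⟨v, hv⟩ := (ih S.X₂).2 w
      have hv' : v.comp (Ext.mk₀ S.g) (add_zero n) = z := (ih S.X₃).1 (funext fun j => by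
        have h' := congrFun hv j
        simp only at h'
        show _ = _
        dsimp only
        rw [← hw j, ← h']
        exact (Ext.comp_assoc_of_third_deg_zero _ _ _ _).symm)
      rw [← hz, ← hv', Ext.comp_assoc_of_second_deg_zero, hS.comp_extClass, Ext.comp_zero]
    · intro y
      choose z hz using fun j => Ext.covariant_sequence_exact₁ (P j) hS (y j) (by subsingleton) rfl
      obtain ⟨v, hv⟩ := (ih S.X₃).2 z
      refine ⟨v.comp hS.extClass rfl, funext fun j => ?_⟩
      dsimp only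
      rw [← hz j, ← congrFun hv j]
      exact (Ext.comp_assoc _ _ _ _ _ (by omega)).symm

end Coproduct

variable (I) in
/-- `I`-power torsion. -/
def Tors (M : ModuleCat.{u} A) : Prop := ∀ m : M, ∃ n : ℕ, ∀ a ∈ I ^ n, a • m = 0

variable (I) in
/-- The part killed by `I ^ k`. -/
noncomputable abbrev part (M : ModuleCat.{u} A) (k : ℕ) : ModuleCat.{u} A :=
  ModuleCat.of A (Submodule.torsionBySet A M ((I ^ k : Ideal A) : Set A))

variable (I) in
noncomputable def partι (M : ModuleCat.{u} A) (k : ℕ) : part I M k ⟶ M :=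
  ModuleCat.ofHom (Submodule.subtype _)

theorem bijective_ψ (h : IsoMod A B I) (hI : I.FG) : ∀ (n : ℕ) (M : ModuleCat.{u} A), Tors I M →
    ∀ N, Function.Bijective (ψ B M N n) := by
  have cop : ∀ (n : ℕ) (M N : ModuleCat.{u} A), Function.Bijective (ψ B (∐ part I M) N n) := by
    intro n M N
    have hk : ∀ k, Function.Bijective (ψ B (part I M k) N n) := fun k =>
      bijective_ψ_of_killed h hI _ ⟨k, fun a ha (m : part I M k) => Subtype.ext ((Submodule.mem_torsionBySet_iff _ _).1 m.2 ⟨a, ha⟩)⟩ N n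
    have c₁ := bijective_precomp_ι (part I M) n N
    have c₂ := bijective_precomp_ι (part I M) n ((T A B).obj N)
    refine (Function.Bijective.of_comp_iff' c₂ _).1 ?_
    have : (fun x k => (Ext.mk₀ (Sigma.ι (part I M) k)).comp x (zero_add n)) ∘ ψ B (∐ part I M) N n =
        Pi.map (fun k => ψ B (part I M k) N n) ∘ fun x k => (Ext.mk₀ (Sigma.ι (part I M) k)).comp x (zero_add n) := by
      funext x k
      exact (ψ_comp _ _ _).symm
    rw [this]
    exact (Function.Bijective.piMap hk).comp c₁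
  have setup : ∀ M : ModuleCat.{u} A, Tors I M → ∃ (K : ModuleCat.{u} A) (i : K ⟶ ∐ part I M)
      (p : ∐ part I M ⟶ M) (w : i ≫ p = 0), (ShortComplex.mk i p w).ShortExact ∧ Tors I K := by
    intro M hM
    let p : ∐ part I M ⟶ M := Sigma.desc (partι I M)
    have htors : Tors I (∐ part I M) := by
      intro z
      let e := ModuleCat.coprodIsoDirectSum (part I M)
      suffices ∀ w : DirectSum ℕ (fun k => part I M k), ∃ n : ℕ, ∀ a ∈ I ^ n, a • w = 0 by
        obtain ⟨n, hn⟩ := this (e.hom.hom z)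
        exact ⟨n, fun a ha => e.toLinearEquiv.injective (by
          rw [map_smul, map_zero]; exact hn a ha)⟩
      intro w
      induction w using DirectSum.induction_on with
      | zero => exact ⟨0, fun a _ => smul_zero a⟩
      | of k x =>
        exact ⟨k, fun a ha => by
          rw [← DirectSum.lof_eq_of A, ← map_smul, show a • x = 0 from Subtype.ext ((Submodule.mem_torsionBySet_iff _ _).1 x.2 ⟨a, ha⟩), map_zero]⟩
      | add x y hx hy =>
        obtain ⟨n, hn⟩ := hx
        obtain ⟨m, hm⟩ := hy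
        exact ⟨max n m, fun a ha => by
          rw [smul_add, hn a (Ideal.pow_le_pow_right (le_max_left n m) ha),
            hm a (Ideal.pow_le_pow_right (le_max_right n m) ha), add_zero]⟩
    haveI : Epi p := (ModuleCat.epi_iff_surjective _).2 fun m => by
      obtain ⟨k, hk⟩ := hM m
      refine ⟨(Sigma.ι (part I M) k).hom ⟨m, (Submodule.mem_torsionBySet_iff _ _).2 fun a => hk _ a.2⟩, ?_⟩
      exact ConcreteCategory.congr_hom (Sigma.ι_desc (partι I M) k) ⟨m, (Submodule.mem_torsionBySet_iff _ _).2 fun a => hk _ a.2⟩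
    refine ⟨kernel p, kernel.ι p, p, kernel.condition p,
      { exact := ShortComplex.exact_of_f_is_kernel _ (kernelIsKernel p) }, fun z => ?_⟩
    obtain ⟨n, hn⟩ := htors ((kernel.ι p).hom z)
    exact ⟨n, fun a ha => (ModuleCat.mono_iff_injective (kernel.ι p)).1 inferInstance (by
      rw [map_smul, hn a ha, map_zero])⟩
  intro n
  induction n with
  | zero =>
    intro M hM N
    obtain ⟨K, i, p, w, hS, hK⟩ := setup M hM
    haveI := hS.epi_g
    have inj : ∀ M, Tors I M → Function.Injective (ψ B M N 0) := by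
      intro M hM
      obtain ⟨K, i, p, w, hS, hK⟩ := setup M hM
      haveI := hS.epi_g
      intro x y hxy
      obtain ⟨a, rfl⟩ := (Ext.mk₀_bijective _ _).2 x
      obtain ⟨b, rfl⟩ := (Ext.mk₀_bijective _ _).2 y
      have := congrArg (fun q => (Ext.mk₀ p).comp q (zero_add 0)) hxy
      rw [← ψ_comp, ← ψ_comp] at this
      have h2 := (cop 0 M N).1 this
      rw [Ext.mk₀_comp_mk₀, Ext.mk₀_comp_mk₀] at h2
      rw [(cancel_epi p).1 ((Ext.mk₀_bijective _ _).1 h2)]
    refine ⟨inj M hM, fun y => ?_⟩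
    obtain ⟨x, hx⟩ := (cop 0 M N).2 ((Ext.mk₀ p).comp y (zero_add 0))
    obtain ⟨x', hx'⟩ := Ext.contravariant_sequence_exact₂ hS N x (inj K hK (by
      rw [ψ_comp, hx, ← Ext.comp_assoc_of_second_deg_zero, Ext.mk₀_comp_mk₀, w, Ext.mk₀_zero, Ext.zero_comp,
        map_zero]))
    refine ⟨x', ?_⟩
    have h3 : (Ext.mk₀ p).comp (ψ B M N 0 x' - y) (zero_add 0) = 0 := by
      rw [sub_eq_add_neg, Ext.comp_add, Ext.comp_neg, ← ψ_comp, hx', hx, add_neg_cancel]
    obtain ⟨c, hc⟩ := (Ext.mk₀_bijective _ _).2 (ψ B M N 0 x' - y)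
    rw [← hc, Ext.mk₀_comp_mk₀, ← Ext.mk₀_zero] at h3
    rw [← sub_eq_zero, ← hc, (cancel_epi p).1 (((Ext.mk₀_bijective _ _).1 h3).trans comp_zero.symm), Ext.mk₀_zero]
  | succ n ih =>
    intro M hM N
    have inj : ∀ M, Tors I M → Function.Injective (ψ B M N (n + 1)) := by
      intro M hM
      obtain ⟨K, i, p, w, hS, hK⟩ := setup M hM
      rw [injective_iff_map_eq_zero]
      intro x hx
      have h1 : (Ext.mk₀ p).comp x (zero_add _) = 0 := (cop (n + 1) M N).1 (by
        rw [ψ_comp, hx, Ext.comp_zero, map_zero])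
      obtain ⟨x', hx'⟩ := Ext.contravariant_sequence_exact₃ hS N x h1 (show 1 + n = n + 1 by omega)
      obtain ⟨y, hy⟩ := Ext.contravariant_sequence_exact₁ hS ((T A B).obj N) (ψ B K N n x')
        (show 1 + n = n + 1 by omega) (by rw [← ψ_comp, hx', hx])
      obtain ⟨y₀, rfl⟩ := (cop n M N).2 y
      have : (Ext.mk₀ i).comp y₀ (zero_add n) = x' := (ih K hK N).1 (by rw [ψ_comp]; exact hy)
      rw [← hx', ← this]
      exact hS.extClass_comp_assoc y₀
    refine ⟨inj M hM, fun y => ?_⟩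
    obtain ⟨K, i, p, w, hS, hK⟩ := setup M hM
    obtain ⟨x, hx⟩ := (cop (n + 1) M N).2 ((Ext.mk₀ p).comp y (zero_add _))
    obtain ⟨x', hx'⟩ := Ext.contravariant_sequence_exact₂ hS N x (inj K hK (by
      rw [ψ_comp, hx, ← Ext.comp_assoc_of_second_deg_zero, Ext.mk₀_comp_mk₀, w, Ext.mk₀_zero, Ext.zero_comp,
        map_zero]))
    obtain ⟨z, hz⟩ := Ext.contravariant_sequence_exact₃ hS ((T A B).obj N) (ψ B M N (n + 1) x' - y) (by
      rw [sub_eq_add_neg, Ext.comp_add, Ext.comp_neg, ← ψ_comp, hx', hx, add_neg_cancel]) (show 1 + n = n + 1 by omega)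
    obtain ⟨z₀, rfl⟩ := (ih K hK N).2 z
    exact ⟨x' - hS.extClass.comp z₀ (show 1 + n = n + 1 by omega), by
      rw [map_sub, ψ_comp, hz]; abel⟩

end Groth.Agent.TorsionBC
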