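import Groth.Prelude.Def_Wider
import Groth.Agent.EtMV.ExtAdj
import Mathlib.Algebra.Homology.DerivedCategory.Linear
import Mathlib.Algebra.Homology.DerivedCategory.ExactFunctor
import Mathlib.Algebra.Category.ModuleCat.ChangeOfRings
import Mathlib.Algebra.Category.ModuleCat.Descent
import Mathlib.Algebra.Homology.ShortComplex.Linear
import Groth.Agent.DRingPC.BaseChange

/-!
# Base change along a flat map which is an isomorphism modulo a finitely generated ideal

`Hom(M, X) → Hom(M, B ⊗ X)` is bijective when `M` is killed by a power of the ideal.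
-/

set_option autoImplicit false
set_option linter.style.haveILetI false
universe u

open CategoryTheory CategoryTheory.Limits CategoryTheory.Pretriangulated TensorProduct

attribute [local instance] HasDerivedCategory.standard

namespace Groth.Agent.TorsionBC

section Triangulated

variable {R : Type u} [CommRing R] {D : Type*} [Category D] [Preadditive D] [HasZeroObject D]
  [HasShift D ℤ] [∀ n : ℤ, (shiftFunctor D n).Additive] [Pretriangulated D] [Linear R D]
  [∀ n : ℤ, (shiftFunctor D n).Linear R]

/-- In a distinguished triangle, annihilators multiply. -/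
theorem smul_id_eq_zero_of_triangle {T : Triangle D} (hT : T ∈ distTriang D) {a b : R}
    (ha : a • 𝟙 T.obj₁ = 0) (hb : b • 𝟙 T.obj₂ = 0) : (a * b) • 𝟙 T.obj₃ = 0 := by
  obtain ⟨h, hh⟩ := Triangle.yoneda_exact₃ T hT (b • 𝟙 T.obj₃) (by
    rw [Linear.comp_smul, Category.comp_id, ← Category.id_comp T.mor₂, ← Linear.smul_comp, hb, zero_comp])
  have h1 : a • T.mor₃ = 0 := by
    rw [← Category.comp_id T.mor₃, ← Linear.comp_smul, ← CategoryTheory.Functor.map_id, ← Functor.map_smul, ha,
      Functor.map_zero, comp_zero]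
  rw [mul_smul, hh, ← Linear.smul_comp, h1, zero_comp]

/-- On a cone of multiplication by `g`, `g ^ 2` is zero. -/
theorem sq_smul_id_eq_zero_of_triangle {T : Triangle D} (hT : T ∈ distTriang D) {g : R}
    (e : T.obj₁ ≅ T.obj₂) (h₁ : T.mor₁ = g • e.hom) : (g * g) • 𝟙 T.obj₃ = 0 := by
  have h12 : g • T.mor₂ = 0 := by
    have := comp_distTriang_mor_zero₁₂ T hT
    rwa [h₁, Linear.smul_comp, ← Linear.comp_smul, ← cancel_epi e.inv, Iso.inv_hom_id_assoc, comp_zero] at this
  obtain ⟨h, hh⟩ := Triangle.yoneda_exact₃ T hT (g • 𝟙 T.obj₃) (by rw [Linear.comp_smul, Category.comp_id, h12])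
  have h31 : g • T.mor₃ = 0 := by
    have := comp_distTriang_mor_zero₃₁ T hT
    rw [h₁, Functor.map_smul, Linear.comp_smul, ← cancel_mono ((shiftFunctor D (1 : ℤ)).map e.inv)] at this
    rwa [Linear.smul_comp, Category.assoc, ← Functor.map_comp, Iso.hom_inv_id, CategoryTheory.Functor.map_id, Category.comp_id,
      zero_comp] at this
  rw [mul_smul, hh, ← Linear.smul_comp, h31, zero_comp]

end Triangulated

variable (A B : Type u) [CommRing A] [CommRing B] [Algebra A B]

/-- `B ⊗ -` as an endofunctor of `A`-modules. -/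
noncomputable abbrev T : ModuleCat.{u} A ⥤ ModuleCat.{u} A :=
  ModuleCat.extendScalars.{u, u, u} (algebraMap A B) ⋙ ModuleCat.restrictScalars (algebraMap A B)

/-- The unit `M → B ⊗ M`. -/
noncomputable abbrev η : 𝟭 (ModuleCat.{u} A) ⟶ T A B :=
  (ModuleCat.extendRestrictScalarsAdj (algebraMap A B)).unit


theorem T_map_extendLEquiv {X Y : ModuleCat.{u} A} (f : X ⟶ Y) (w : B ⊗[A] X) :
    ((T A B).map f).hom (DRingPC.extendLEquiv A B X w) = DRingPC.extendLEquiv A B Y (f.hom.lTensor B w) := by
  induction w using TensorProduct.induction_on with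
  | zero => simp only [map_zero]; exact map_zero _
  | add z w hz hw =>
    simp only [map_add]
    exact (map_add _ _ _).trans (congrArg₂ (· + ·) hz hw)
  | tmul b x => rfl

theorem η_eq (M : ModuleCat.{u} A) (m : M) :
    ((η A B).app M).hom m = DRingPC.extendLEquiv A B M ((1 : B) ⊗ₜ[A] m) := rfl

instance T_linear : Functor.Linear A (T A B) where
  map_smul {X Y} f a := by
    refine ModuleCat.hom_ext (LinearMap.ext fun z => ?_)
    obtain ⟨w, rfl⟩ := (DRingPC.extendLEquiv A B X).surjective z
    refine (T_map_extendLEquiv A B (a • f) w).trans (Eq.trans ?_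
      (congrArg (fun t => a • t) (T_map_extendLEquiv A B f w)).symm)
    rw [ModuleCat.hom_smul, LinearMap.lTensor_smul, LinearMap.smul_apply, ← algebraMap_smul B a (f.hom.lTensor B w),
      map_smul]
    rfl

variable [Module.Flat A B]

instance T_preservesFiniteLimits : PreservesFiniteLimits (T A B) := by
  haveI := ModuleCat.preservesFiniteLimits_extendScalars_of_flat.{u} (f := algebraMap A B)
    (RingHom.flat_algebraMap_iff.2 inferInstance)
  exact comp_preservesFiniteLimits _ _

instance T_preservesFiniteColimits : PreservesFiniteColimits (T A B) :=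
  comp_preservesFiniteColimits _ _

variable (I : Ideal A)

/-- `A / I = B / IB`. -/
def IsoMod : Prop :=
  Function.Surjective ((Ideal.Quotient.mk (I.map (algebraMap A B))).comp (algebraMap A B)) ∧
    RingHom.ker ((Ideal.Quotient.mk (I.map (algebraMap A B))).comp (algebraMap A B)) = I

variable {A B I}

omit [Module.Flat A B] in
theorem map_tmul_eq_zero {M : Type u} [AddCommGroup M] [Module A M] (hM : ∀ a ∈ I, ∀ m : M, a • m = 0)
    {b : B} (hb : b ∈ I.map (algebraMap A B)) (m : M) : (b ⊗ₜ[A] m : B ⊗[A] M) = 0 := by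
  induction hb using Submodule.span_induction generalizing m with
  | mem x hx =>
    obtain ⟨a, ha, rfl⟩ := hx
    rw [Algebra.algebraMap_eq_smul_one, TensorProduct.smul_tmul, hM a ha, TensorProduct.tmul_zero]
  | zero => exact TensorProduct.zero_tmul _ _
  | add x y _ _ hx hy => rw [TensorProduct.add_tmul, hx, hy, add_zero]
  | smul c x _ hx =>
    have : (c * x) ⊗ₜ[A] m = c • (x ⊗ₜ[A] m : B ⊗[A] M) := rfl
    rw [smul_eq_mul, this, hx, smul_zero]

omit [Module.Flat A B] in
theorem bijective_one_tmul (h : IsoMod A B I) (M : Type u) [AddCommGroup M] [Module A M]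
    (hM : ∀ a ∈ I, ∀ m : M, a • m = 0) : Function.Bijective fun m : M => (1 : B) ⊗ₜ[A] m := by
  obtain ⟨hs, hk⟩ := h
  choose s hs' using fun b : B => hs (Ideal.Quotient.mk _ b)
  have hcon : ∀ (x y : A), algebraMap A B x - algebraMap A B y ∈ I.map (algebraMap A B) → x - y ∈ I := by
    intro x y hxy
    rw [← map_sub] at hxy
    rw [← hk, RingHom.mem_ker, RingHom.comp_apply]
    exact Ideal.Quotient.eq_zero_iff_mem.mpr hxy
  have key : ∀ (b : B) (x : A), algebraMap A B x - b ∈ I.map (algebraMap A B) → ∀ m : M, s b • m = x • m := by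
    intro b x hx m
    rw [← sub_eq_zero, ← sub_smul]
    refine hM _ (hcon _ _ ?_) m
    have h1 : algebraMap A B (s b) - b ∈ I.map (algebraMap A B) := Ideal.Quotient.eq.mp (hs' b)
    simpa using sub_mem h1 hx
  have hb : ∀ b, algebraMap A B (s b) - b ∈ I.map (algebraMap A B) := fun b => Ideal.Quotient.eq.mp (hs' b)
  let r : B ⊗[A] M →ₗ[A] M := TensorProduct.lift
    { toFun := fun b => s b • LinearMap.id
      map_add' := fun b c => LinearMap.ext fun m => by
        show s (b + c) • m = s b • m + s c • m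
        rw [← add_smul]
        refine key _ _ ?_ m
        have := add_mem (hb b) (hb c)
        simpa [map_add, add_sub_add_comm] using this
      map_smul' := fun a b => LinearMap.ext fun m => by
        show s (a • b) • m = a • s b • m
        rw [← mul_smul]
        refine key _ _ ?_ m
        have := Ideal.mul_mem_left (I.map (algebraMap A B)) (algebraMap A B a) (hb b)
        simpa [Algebra.smul_def, mul_sub] using this }
  constructor
  · intro m m' hmm
    have h1 := congrArg r hmm
    have hone : ∀ m : M, r (1 ⊗ₜ[A] m) = m := fun m => by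
      show s 1 • m = m
      rw [key 1 1 (by simp) m, one_smul]
    simpa [hone] using h1
  · intro z
    induction z using TensorProduct.induction_on with
    | zero => exact ⟨0, TensorProduct.tmul_zero _ _⟩
    | add z w hz hw =>
      obtain ⟨p, hp⟩ := hz
      obtain ⟨q, hq⟩ := hw
      exact ⟨p + q, by simp only at hp hq ⊢; rw [TensorProduct.tmul_add, hp, hq]⟩
    | tmul b m =>
      refine ⟨s b • m, ?_⟩
      show (1 : B) ⊗ₜ[A] (s b • m) = b ⊗ₜ[A] m
      rw [← TensorProduct.smul_tmul, ← Algebra.algebraMap_eq_smul_one, ← sub_eq_zero, ← TensorProduct.sub_tmul]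
      exact map_tmul_eq_zero hM (hb b) m

theorem bijective_η_of_pow (h : IsoMod A B I) : ∀ (n : ℕ) (M : ModuleCat.{u} A),
    (∀ a ∈ I ^ n, ∀ m : M, a • m = 0) → IsIso ((η A B).app M) := by
  intro n
  induction n with
  | zero =>
    intro M hM
    have hz : IsZero M := @ModuleCat.isZero_of_subsingleton _ _ M
      ⟨fun x y => by rw [← one_smul A x, ← one_smul A y, hM 1 (by simp), hM 1 (by simp)]⟩
    exact ⟨0, hz.eq_of_src _ _, ((T A B).map_isZero hz).eq_of_src _ _⟩
  | succ n ih =>
    intro M hM
    let M' : Submodule A M := I • ⊤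
    let S : ShortComplex (ModuleCat.{u} A) := ShortComplex.mk (ModuleCat.ofHom M'.subtype) (ModuleCat.ofHom M'.mkQ)
      (by ext x; exact (Submodule.Quotient.mk_eq_zero _).2 x.2)
    have hS : S.ShortExact :=
      { exact := (ShortComplex.ShortExact.moduleCat_exact_iff_function_exact _).2 (LinearMap.exact_subtype_mkQ M')
        mono_f := (ModuleCat.mono_iff_injective _).2 M'.injective_subtype
        epi_g := (ModuleCat.epi_iff_surjective _).2 M'.mkQ_surjective }
    haveI h1 : IsIso ((η A B).app S.X₁) := ih S.X₁ fun a ha m => Subtype.ext (by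
      obtain ⟨m, hm⟩ := m
      show a • m = 0
      refine Submodule.smul_induction_on hm (fun r hr x _ => ?_) (fun x y hx hy => by rw [smul_add, hx, hy, add_zero])
      rw [← mul_smul]
      exact hM _ (pow_succ I n ▸ Ideal.mul_mem_mul ha hr) x)
    haveI h3 : IsIso ((η A B).app S.X₃) := by
      rw [ConcreteCategory.isIso_iff_bijective]
      have hb := bijective_one_tmul h (M ⧸ M') fun a ha m => by
        obtain ⟨m, rfl⟩ := M'.mkQ_surjective m
        exact (Submodule.Quotient.mk_eq_zero _).2 (Submodule.smul_mem_smul ha Submodule.mem_top)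
      exact (DRingPC.extendLEquiv A B (M ⧸ M')).bijective.comp hb
    have hT := hS.map_of_exact (T A B)
    let φ : S ⟶ S.map (T A B) :=
      { τ₁ := (η A B).app S.X₁
        τ₂ := (η A B).app S.X₂
        τ₃ := (η A B).app S.X₃
        comm₁₂ := ((η A B).naturality S.f).symm
        comm₂₃ := ((η A B).naturality S.g).symm }
    haveI : IsIso φ.τ₁ := h1
    haveI : IsIso φ.τ₃ := h3
    exact ShortComplex.isIso₂_of_shortExact_of_isIso₁₃ φ hS hT

variable (g : Finset A)

/-- `T` on complexes. -/
noncomputable abbrev Tc (A B : Type u) [CommRing A] [CommRing B] [Algebra A B] :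
    CochainComplex (ModuleCat.{u} A) ℤ ⥤ CochainComplex (ModuleCat.{u} A) ℤ :=
  (T A B).mapHomologicalComplex (ComplexShape.up ℤ)

/-- The unit on complexes. -/
noncomputable abbrev ηc (A B : Type u) [CommRing A] [CommRing B] [Algebra A B]
    (X : CochainComplex (ModuleCat.{u} A) ℤ) : X ⟶ (Tc A B).obj X :=
  (Functor.mapHomologicalComplexIdIso (ModuleCat.{u} A) (ComplexShape.up ℤ)).inv.app X ≫
    (NatTrans.mapHomologicalComplex (η A B) (ComplexShape.up ℤ)).app X

theorem ηc_naturality {X Y : CochainComplex (ModuleCat.{u} A) ℤ} (f : X ⟶ Y) :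
    f ≫ ηc A B Y = ηc A B X ≫ (Tc A B).map f := by
  ext i : 1
  show f.f i ≫ 𝟙 _ ≫ (η A B).app (Y.X i) = (𝟙 _ ≫ (η A B).app (X.X i)) ≫ (T A B).map (f.f i)
  rw [Category.id_comp, Category.id_comp]
  exact (η A B).naturality (f.f i)

theorem isIso_Q_ηc (h : IsoMod A B I) (hg : Ideal.span (g : Set A) = I)
    (X : CochainComplex (ModuleCat.{u} A) ℤ)
    (hX : ∀ f ∈ g, ∃ k : ℕ, f ^ k • 𝟙 (DerivedCategory.Q.obj X) = 0) :
    IsIso (DerivedCategory.Q.map (ηc A B X)) := by
  rw [DerivedCategory.isIso_Q_map_iff_quasiIso]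
  refine ⟨fun i => ?_⟩
  rw [quasiIsoAt_iff_isIso_homologyMap]
  have hk : ∀ f ∈ g, f ∈ (Module.annihilator A (X.homology i)).radical := fun f hf => by
    obtain ⟨k, hk⟩ := hX f hf
    refine ⟨k, Module.mem_annihilator.2 fun m => ?_⟩
    have h1 : (DerivedCategory.homologyFunctor (ModuleCat.{u} A) i).map
        (DerivedCategory.Q.map (f ^ k • 𝟙 X)) = 0 := by
      rw [Functor.map_smul, CategoryTheory.Functor.map_id, hk, Functor.map_zero]
    have h2 : HomologicalComplex.homologyMap (f ^ k • 𝟙 X) i = 0 :=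
      (NatIso.naturality_1 (DerivedCategory.homologyFunctorFactors (ModuleCat.{u} A) i) (f ^ k • 𝟙 X)).symm.trans
        (by rw [Functor.comp_map, h1]; simp; rfl)
    have h4 : HomologicalComplex.homologyMap (f ^ k • 𝟙 X) i = f ^ k • 𝟙 (X.homology i) := by
      let S := (HomologicalComplex.shortComplexFunctor (ModuleCat.{u} A) (ComplexShape.up ℤ) i).obj X
      have := ShortComplex.homologyMap_smul (R := A) (𝟙 S) (f ^ k)
      rw [ShortComplex.homologyMap_id] at this
      exact this
    exact ConcreteCategory.congr_hom (h4.symm.trans h2) m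
  have hrad : I ≤ (Module.annihilator A (X.homology i)).radical := hg ▸ Ideal.span_le.2 hk
  obtain ⟨n, hn⟩ := Ideal.exists_pow_le_of_le_radical_of_fg hrad ⟨g, hg⟩
  haveI := bijective_η_of_pow h n (X.homology i) fun a ha m => Module.mem_annihilator.1 (hn ha) m
  have e := (η A B).app_homology (X.sc i)
  have h5 : IsIso (ShortComplex.homologyMap ((X.sc i).mapNatTrans (η A B))) := by
    have : ShortComplex.homologyMap ((X.sc i).mapNatTrans (η A B)) =
        ((X.sc i).mapHomologyIso (𝟭 _)).hom ≫ (η A B).app (X.sc i).homology ≫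
          ((X.sc i).mapHomologyIso (T A B)).inv := by rw [e]; simp
    rw [this]
    haveI : IsIso ((η A B).app (X.sc i).homology) := ‹IsIso ((η A B).app (X.homology i))›
    infer_instance
  show IsIso (ShortComplex.homologyMap ((HomologicalComplex.shortComplexFunctor _ _ i).map (ηc A B X)))
  have hmap : (HomologicalComplex.shortComplexFunctor _ _ i).map (ηc A B X) = (X.sc i).mapNatTrans (η A B) := by
    apply ShortComplex.hom_ext <;> exact Category.id_comp _
  rw [hmap]
  exact h5

variable (M : ModuleCat.{u} A)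

/-- `Hom(M, X) → Hom(M, B ⊗ X)`. -/
noncomputable def φ (X : CochainComplex (ModuleCat.{u} A) ℤ)
    (x : (DerivedCategory.singleFunctor (ModuleCat.{u} A) 0).obj M ⟶ DerivedCategory.Q.obj X) :
    (DerivedCategory.singleFunctor (ModuleCat.{u} A) 0).obj M ⟶ DerivedCategory.Q.obj ((Tc A B).obj X) :=
  x ≫ DerivedCategory.Q.map (ηc A B X)

theorem smul_hom_eq_zero {f : A} (hf : ∀ m : M, f • m = 0) {Z : DerivedCategory (ModuleCat.{u} A)}
    (x : (DerivedCategory.singleFunctor (ModuleCat.{u} A) 0).obj M ⟶ Z) : f • x = 0 := by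
  have h : f • 𝟙 M = 0 := ModuleCat.hom_ext (LinearMap.ext hf)
  rw [← Category.id_comp x, ← Linear.smul_comp, ← CategoryTheory.Functor.map_id, ← Functor.map_smul, h,
    Functor.map_zero, zero_comp]

/-- The bijectivity statement for all complexes whose gens in `done` act nilpotently. -/
theorem bijective_φ (h : IsoMod A B I) (hg : Ideal.span (g : Set A) = I)
    (hM : ∀ f ∈ g, ∃ k : ℕ, ∀ m : M, f ^ k • m = 0) :
    ∀ (todo : List A) (_ : ∀ f ∈ todo, f ∈ g) (X : CochainComplex (ModuleCat.{u} A) ℤ),
      (∀ f ∈ g, f ∉ todo → ∃ k : ℕ, f ^ k • 𝟙 (DerivedCategory.Q.obj X) = 0) →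
      Function.Bijective (φ (B := B) M X) := by
  intro todo
  induction todo with
  | nil =>
    intro _ X hX
    haveI := isIso_Q_ηc g h hg X fun f hf => hX f hf (by simp)
    exact ⟨fun x y hxy => (cancel_mono (DerivedCategory.Q.map (ηc A B X))).1 hxy,
      fun y => ⟨y ≫ inv (DerivedCategory.Q.map (ηc A B X)), by simp [φ]⟩⟩
  | cons f todo ih =>
    intro ht X hX
    obtain ⟨k, hk⟩ := hM f (ht f (by simp))
    have dist : ∀ {Z W : CochainComplex (ModuleCat.{u} A) ℤ} (p : Z ⟶ W),
        DerivedCategory.Q.mapTriangle.obj (CochainComplex.mappingCone.triangle p) ∈ distTriang _ := fun p =>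
      (DerivedCategory.mem_distTriang_iff _).2 ⟨_, _, p, ⟨Iso.refl _⟩⟩
    have inj : ∀ X, (∀ f' ∈ g, f' ∉ f :: todo → ∃ k : ℕ, f' ^ k • 𝟙 (DerivedCategory.Q.obj X) = 0) →
        Function.Injective (φ (B := B) M X) := by
      intro X hX
      let i : X ⟶ CochainComplex.mappingCone (f ^ k • 𝟙 X) := CochainComplex.mappingCone.inr _
      have hY : Function.Bijective (φ (B := B) M (CochainComplex.mappingCone (f ^ k • 𝟙 X))) := by
        refine ih (fun f' hf' => ht f' (by simp [hf'])) _ fun f' hf' hn => ?_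
        by_cases hff : f' = f
        · subst hff
          exact ⟨k + k, by
            rw [pow_add]
            exact sq_smul_id_eq_zero_of_triangle (dist (f' ^ k • 𝟙 X)) (Iso.refl _)
              (show DerivedCategory.Q.map (f' ^ k • 𝟙 X) = f' ^ k • 𝟙 (DerivedCategory.Q.obj X) by rw [Functor.map_smul, CategoryTheory.Functor.map_id])⟩
        · obtain ⟨l, hl⟩ := hX f' hf' (by simp [hff, hn])
          exact ⟨l + l, by rw [pow_add]; exact smul_id_eq_zero_of_triangle (dist (f ^ k • 𝟙 X)) hl hl⟩
      intro x y hxy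
      rw [← sub_eq_zero]
      have hz : φ (B := B) M X (x - y) = 0 := by
        simp only [φ] at hxy ⊢
        rw [Preadditive.sub_comp, hxy, sub_self]
      have h1 : (x - y) ≫ DerivedCategory.Q.map i = 0 := hY.1 (by
        simp only [φ] at hz ⊢
        rw [Category.assoc, ← Functor.map_comp, ηc_naturality i, Functor.map_comp, reassoc_of% hz, zero_comp,
          zero_comp])
      obtain ⟨w, hw⟩ : ∃ w : (DerivedCategory.singleFunctor (ModuleCat.{u} A) 0).obj M ⟶ DerivedCategory.Q.obj X,
          x - y = w ≫ DerivedCategory.Q.map (f ^ k • 𝟙 X) :=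
        Triangle.coyoneda_exact₂ _ (dist (f ^ k • 𝟙 X)) (x - y) h1
      rw [hw]
      rw [Functor.map_smul, CategoryTheory.Functor.map_id, Linear.comp_smul, Category.comp_id]
      exact smul_hom_eq_zero M hk w
    refine ⟨inj X hX, fun y => ?_⟩
    let i : X ⟶ CochainComplex.mappingCone (f ^ k • 𝟙 X) := CochainComplex.mappingCone.inr _
    let p : CochainComplex.mappingCone (f ^ k • 𝟙 X) ⟶ CochainComplex.mappingCone i := CochainComplex.mappingCone.inr _
    have hYk : ∀ f' ∈ g, f' ∉ f :: todo →
        ∃ k' : ℕ, f' ^ k' • 𝟙 (DerivedCategory.Q.obj (CochainComplex.mappingCone (f ^ k • 𝟙 X))) = 0 := fun f' hf' hn => by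
      obtain ⟨l, hl⟩ := hX f' hf' hn
      exact ⟨l + l, by rw [pow_add]; exact smul_id_eq_zero_of_triangle (dist (f ^ k • 𝟙 X)) hl hl⟩
    have hYb : Function.Bijective (φ (B := B) M (CochainComplex.mappingCone (f ^ k • 𝟙 X))) := by
      refine ih (fun f' hf' => ht f' (by simp [hf'])) _ fun f' hf' hn => ?_
      by_cases hff : f' = f
      · subst hff
        exact ⟨k + k, by
          rw [pow_add]
          exact sq_smul_id_eq_zero_of_triangle (dist (f' ^ k • 𝟙 X)) (Iso.refl _)
            (show DerivedCategory.Q.map (f' ^ k • 𝟙 X) = f' ^ k • 𝟙 (DerivedCategory.Q.obj X) by rw [Functor.map_smul, CategoryTheory.Functor.map_id])⟩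
      · exact hYk f' hf' (by simp [hff, hn])
    obtain ⟨z, hz⟩ := hYb.2 (y ≫ DerivedCategory.Q.map ((Tc A B).map i))
    have hW : ∀ f' ∈ g, f' ∉ f :: todo → ∃ k' : ℕ, f' ^ k' • 𝟙 (DerivedCategory.Q.obj (CochainComplex.mappingCone i)) = 0 :=
      fun f' hf' hn => by
        obtain ⟨l, hl⟩ := hX f' hf' hn
        obtain ⟨l', hl'⟩ := hYk f' hf' hn
        exact ⟨l + l', by rw [pow_add]; exact smul_id_eq_zero_of_triangle (dist i) hl hl'⟩
    have hip : DerivedCategory.Q.map ((Tc A B).map i) ≫ DerivedCategory.Q.map ((Tc A B).map p) = 0 := by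
      have h1 : DerivedCategory.Q.map i ≫ DerivedCategory.Q.map p = 0 := comp_distTriang_mor_zero₁₂ _ (dist i)
      have hn := ((T A B).mapDerivedCategoryFactors (C₁ := ModuleCat.{u} A)).hom.naturality
      have h2 := congrArg (fun q => (T A B).mapDerivedCategory.map q ≫
        (T A B).mapDerivedCategoryFactors.hom.app _) h1
      simp only [Functor.map_comp, Category.assoc, Functor.map_zero, zero_comp] at h2
      erw [(T A B).mapDerivedCategoryFactors_hom_naturality p,
        (T A B).mapDerivedCategoryFactors_hom_naturality_assoc i] at h2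
      exact (cancel_epi _).1 (h2.trans comp_zero.symm)
    have hzp : z ≫ DerivedCategory.Q.map p = 0 := inj _ hW (by
      simp only [φ] at hz ⊢
      rw [Category.assoc, ← Functor.map_comp, ηc_naturality p, Functor.map_comp, reassoc_of% hz, hip, comp_zero,
        zero_comp])
    obtain ⟨x, hx'⟩ : ∃ x : (DerivedCategory.singleFunctor (ModuleCat.{u} A) 0).obj M ⟶ DerivedCategory.Q.obj X,
        z = x ≫ DerivedCategory.Q.map i := Triangle.coyoneda_exact₂ _ (dist i) z hzp
    refine ⟨x, ?_⟩
    have h6 : (φ (B := B) M X x - y) ≫ DerivedCategory.Q.map ((Tc A B).map i) = 0 := by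
      rw [Preadditive.sub_comp, ← hz]
      simp only [φ]
      rw [hx', Category.assoc, Category.assoc, ← Functor.map_comp, ← Functor.map_comp, ← ηc_naturality i, sub_self]
    rw [← sub_eq_zero]
    let e := (T A B).mapDerivedCategoryFactors.app X
    let eY := (T A B).mapDerivedCategoryFactors.app (CochainComplex.mappingCone (f ^ k • 𝟙 X))
    have h7 : ((φ (B := B) M X x - y) ≫ e.inv) ≫ (T A B).mapDerivedCategory.map (DerivedCategory.Q.map i) = 0 := by
      rw [← cancel_mono eY.hom, zero_comp, Category.assoc]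
      erw [(T A B).mapDerivedCategoryFactors_hom_naturality i]
      simpa [e] using h6
    obtain ⟨w, hw⟩ : ∃ w : (DerivedCategory.singleFunctor (ModuleCat.{u} A) 0).obj M ⟶
        (T A B).mapDerivedCategory.obj (DerivedCategory.Q.obj X),
        (φ (B := B) M X x - y) ≫ e.inv = w ≫ (T A B).mapDerivedCategory.map (DerivedCategory.Q.map (f ^ k • 𝟙 X)) :=
      Triangle.coyoneda_exact₂ _ ((T A B).mapDerivedCategory.map_distinguished _ (dist (f ^ k • 𝟙 X))) _ h7
    rw [← cancel_mono e.inv, zero_comp, hw]
    rw [Functor.map_smul, CategoryTheory.Functor.map_id, Functor.map_smul, CategoryTheory.Functor.map_id, Linear.comp_smul,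
      Category.comp_id]
    exact smul_hom_eq_zero M hk w

end Groth.Agent.TorsionBC
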